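import Groth.Agent.CIntCI.FibreImm
import Groth.Agent.CIntCodim.Smooth
import Groth.Agent.Depth.CM
import Groth.Agent.S14424
import Mathlib.AlgebraicGeometry.Morphisms.Smooth

/-!
# Big opens of flat families with regular fibres, over an arbitrary base

* `exists_pair_of_height`: a regular pair of the fibre lifts to a regular pair near the point.
* `exists_pair`: local regular pairs vanishing outside a big open.
* `res_injective`, `res_surjective`, `isSchematicallyDense`: Hartogs over a possibly non-Noetherian base.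
-/

set_option autoImplicit false
set_option linter.style.haveILetI false

universe u

open CategoryTheory CategoryTheory.Limits AlgebraicGeometry IsLocalRing RingTheory.Sequence Opposite

namespace Groth.Agent.BigOpen12

variable {X S : Scheme.{u}}

theorem isWeaklyRegular_map_equiv {A B : Type u} [CommRing A] [CommRing B] (e : A ≃+* B) {rs : List A}
    (h : IsWeaklyRegular A rs) : IsWeaklyRegular B (rs.map e) := by
  letI := (e : A →+* B).toAlgebra
  exact (isWeaklyRegular_map_algebraMap_iff B B rs).mpr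
    (((AlgEquiv.ofRingEquiv (f := e) (fun x => rfl) : A ≃ₐ[A] B).toLinearEquiv.isWeaklyRegular_congr rs).mp h)

/-- Two sections of `I` regular near `x`, when `I` has height at least two on the fibre. -/
theorem exists_pair_of_height (q : X ⟶ S) [Flat q] [LocallyOfFinitePresentation q] (s : S) (w : q.fiber s)
    [IsRegularLocalRing ((q.fiber s).presheaf.stalk w)] {W : S.Opens} (hW : IsAffineOpen W) {U : X.Opens}
    (hU : IsAffineOpen U) (hle : U ≤ q ⁻¹ᵁ W) (hx : q.fiberι s w ∈ U) (I : Ideal Γ(X, U))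
    (hIQ : I ≤ (hU.primeIdealOf ⟨q.fiberι s w, hx⟩).asIdeal)
    (hht : (2 : ℕ∞) ≤ ((I.map (X.presheaf.germ U _ hx).hom).map ((q.fiberι s).stalkMap w).hom).height) :
    ∃ a ∈ I, ∃ b ∈ I, ∃ g : Γ(X, U), q.fiberι s w ∈ X.basicOpen g ∧
      IsWeaklyRegular Γ(X, X.basicOpen g) ([a, b].map (X.presheaf.map (homOfLE (X.basicOpen_le g)).op).hom) := by
  set x := q.fiberι s w with hxdef
  let A := S.presheaf.stalk (q x)
  let C := X.presheaf.stalk x
  let D := (q.fiber s).presheaf.stalk w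
  let π : C →+* D := ((q.fiberι s).stalkMap w).hom
  letI : Algebra A C := (q.stalkMap x).hom.toAlgebra
  haveI : IsLocalHom (algebraMap A C) := inferInstanceAs (IsLocalHom (q.stalkMap x).hom)
  haveI : Module.Flat A C := Flat.stalkMap q x
  have hπ : Function.Surjective π := (q.fiberι s).stalkMap_surjective w
  have hk : RingHom.ker π = EGA4.mB A C := FlatMor.FibreStalk.ker_stalkMap_fiberι q s w
  letI : Algebra Γ(X, U) C := (X.presheaf.germ U x hx).hom.toAlgebra
  haveI hlocC : IsLocalization.AtPrime C (hU.primeIdealOf ⟨x, hx⟩).asIdeal := hU.isLocalization_stalk ⟨x, hx⟩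
  letI : Algebra Γ(S, W) A := (S.presheaf.germ W (q x) (hle hx)).hom.toAlgebra
  letI : Algebra Γ(S, W) Γ(X, U) := (q.appLE W U hle).hom.toAlgebra
  letI : Algebra Γ(S, W) C := ((algebraMap A C).comp (algebraMap Γ(S, W) A)).toAlgebra
  haveI : IsScalarTower Γ(S, W) A C := .of_algebraMap_eq' rfl
  haveI : IsScalarTower Γ(S, W) Γ(X, U) C := .of_algebraMap_eq fun r => by
    show (q.stalkMap x).hom ((S.presheaf.germ W (q x) (hle hx)).hom r) =
      (X.presheaf.germ U x hx).hom ((q.appLE W U hle).hom r)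
    rw [Scheme.Hom.germ_stalkMap_apply, Scheme.Hom.appLE, CommRingCat.comp_apply,
      TopCat.Presheaf.germ_res_apply]
  haveI : Algebra.FinitePresentation Γ(S, W) Γ(X, U) := q.finitePresentation_appLE hW hU hle
  have hQ : (hU.primeIdealOf ⟨x, hx⟩).asIdeal.comap (algebraMap Γ(S, W) Γ(X, U)) =
      (hW.primeIdealOf ⟨q x, hle hx⟩).asIdeal :=
    congrArg PrimeSpectrum.asIdeal (IsAffineOpen.comap_primeIdealOf_appLE W hW U hU hle (f := q) (x := x) hx)
  haveI : IsLocalization.AtPrime A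
      ((hU.primeIdealOf ⟨x, hx⟩).asIdeal.comap (algebraMap Γ(S, W) Γ(X, U))) := by
    have h : IsLocalization.AtPrime A (hW.primeIdealOf ⟨q x, hle hx⟩).asIdeal :=
      hW.isLocalization_stalk ⟨q x, hle hx⟩
    simpa only [IsLocalization.AtPrime, hQ] using h
  -- a regular pair in the image of `I`
  let J : Ideal D := (I.map (algebraMap Γ(X, U) C)).map π
  have hJm : J ≤ maximalIdeal D := by
    haveI : IsLocalHom π := IsLocalHom.of_surjective π hπ
    refine le_trans (Ideal.map_mono ?_) (map_maximalIdeal_le π)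
    rw [← IsLocalization.AtPrime.map_eq_maximalIdeal (hU.primeIdealOf ⟨x, hx⟩).asIdeal C]
    exact Ideal.map_mono hIQ
  have hJ : J ≠ ⊤ := ne_top_of_le_ne_top (maximalIdeal.isMaximal D).ne_top hJm
  haveI : LocCoh.IsCohenMacaulayLocalRing D := Depth.isCohenMacaulayLocalRing_of_isRegularLocalRing
  have hdep : (2 : ℕ∞) ≤ LocCoh.idealDepth J D := by
    rw [(S14424.result D).1 Depth.isCohenMacaulayRing_of_isCohenMacaulayLocalRing J hJ]
    exact hht
  obtain ⟨ys, hys, hysJ, hlen⟩ := Depth.exists_isWeaklyRegular_of_le_idealDepth (I := J) (M := D) (n := 2)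
    (fun h => hJ (by rwa [smul_eq_mul, Ideal.mul_top] at h)) (by exact_mod_cast hdep)
  have hlift : ∀ y ∈ ys, ∃ b ∈ I, ∃ v : D, IsUnit v ∧ π (algebraMap Γ(X, U) C b) = v * y := by
    intro y hy
    obtain ⟨t, htJ, rfl⟩ := (Ideal.mem_map_iff_of_surjective π hπ).1 (hysJ y hy)
    obtain ⟨⟨⟨b, hb⟩, s'⟩, hbs⟩ :=
      (IsLocalization.mem_map_algebraMap_iff (hU.primeIdealOf ⟨x, hx⟩).asIdeal.primeCompl C).1 htJ
    refine ⟨b, hb, π (algebraMap Γ(X, U) C s'), (IsLocalization.map_units C s').map π, ?_⟩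
    rw [← map_mul, ← hbs, mul_comm]
  choose! b hbI v hv hbv using hlift
  have hD : IsWeaklyRegular D (ys.map fun y => π (algebraMap Γ(X, U) C (b y))) := by
    refine LCI.Vasconcelos.isWeaklyRegular_of_unit_mul ys _ D ?_ hys
    simp only [List.forall₂_map_right_iff, List.forall₂_same]
    exact fun y hy => ⟨v y, hv y hy, hbv y hy⟩
  let e : EGA4.FibRing A C ≃+* D :=
    (Ideal.quotEquivOfEq hk.symm).trans (RingHom.quotientKerEquivOfSurjective hπ)
  have hF := isWeaklyRegular_map_equiv e.symm hD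
  have hF' : IsWeaklyRegular (EGA4.FibRing A C)
      ((ys.map b).map fun c => Ideal.Quotient.mk (EGA4.mB A C) (algebraMap Γ(X, U) C c)) := by
    rw [List.map_map] at hF ⊢
    refine (List.map_congr_left fun y _ => ?_) ▸ hF
    exact e.symm_apply_eq.2 rfl
  obtain ⟨g, hgQ, hg⟩ := CIntCI.exists_away_regular (R := Γ(S, W)) (A := A) (C := C)
    (hU.primeIdealOf ⟨x, hx⟩).asIdeal (ys.map b) hF'
  letI : Algebra Γ(X, U) Γ(X, X.basicOpen g) :=
    (X.presheaf.map (homOfLE (X.basicOpen_le g)).op).hom.toAlgebra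
  letI : Algebra Γ(S, W) Γ(X, X.basicOpen g) :=
    ((algebraMap Γ(X, U) Γ(X, X.basicOpen g)).comp (algebraMap Γ(S, W) Γ(X, U))).toAlgebra
  haveI : IsScalarTower Γ(S, W) Γ(X, U) Γ(X, X.basicOpen g) := .of_algebraMap_eq' rfl
  haveI := hU.isLocalization_basicOpen g
  have hres := hg Γ(X, X.basicOpen g)
  obtain ⟨y₁, y₂, rfl⟩ := List.length_eq_two.1 hlen
  exact ⟨b y₁, hbI _ (by simp), b y₂, hbI _ (by simp), g,
    (RegImm44.mem_basicOpen_iff hU ⟨x, hx⟩ g).2 hgQ, hres⟩

theorem isRegularLocalRing_stalk_fiber (q : X ⟶ S) [Smooth q] (s : S) (w : q.fiber s) :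
    IsRegularLocalRing ((q.fiber s).presheaf.stalk w) := by
  have h : Smooth (q.fiberToSpecResidueField s) :=
    MorphismProperty.pullback_snd (P := @Smooth) _ _ inferInstance
  exact @CurveDVR.isRegularLocalRing_stalk (S.residueField s) _ (q.fiber s) (q.fiberToSpecResidueField s) h w

/-- Outside a big open there are local regular pairs vanishing on the complement. -/
theorem exists_pair (q : X ⟶ S) [Flat q] [LocallyOfFinitePresentation q]
    (hreg : ∀ (s : S) (w : q.fiber s), IsRegularLocalRing ((q.fiber s).presheaf.stalk w)) (U : X.Opens)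
    (hU : ∀ x : X, x ∉ U → (2 : WithBot ℕ∞) ≤ ringKrullDim (CInt.fiberStalk q x))
    (V : X.Opens) (x : X) (hxV : x ∈ V) (hxU : x ∉ U) :
    ∃ (D : X.Opens) (_ : IsAffineOpen D), x ∈ D ∧ D ≤ V ∧ ∃ a b : Γ(X, D),
      IsWeaklyRegular Γ(X, D) [a, b] ∧ X.basicOpen a ≤ U ∧ X.basicOpen b ≤ U := by
  obtain ⟨s, w, rfl⟩ : ∃ (s : S) (w : q.fiber s), q.fiberι s w = x :=
    ⟨q x, q.asFiber x, Scheme.Hom.fiberι_asFiber q x⟩
  obtain ⟨W, hW, hsW, -⟩ :=
    exists_isAffineOpen_mem_and_subset (show q (q.fiberι s w) ∈ (⊤ : S.Opens) from trivial)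
  obtain ⟨U₀, hU₀, hx₀, hle₀⟩ :=
    exists_isAffineOpen_mem_and_subset (show q.fiberι s w ∈ q ⁻¹ᵁ W ⊓ V from ⟨hsW, hxV⟩)
  let T : Set (PrimeSpectrum Γ(X, U₀)) := hU₀.fromSpec ⁻¹' ((U : Set X)ᶜ)
  have hT : IsClosed T := U.2.isClosed_compl.preimage hU₀.fromSpec.continuous
  let I := PrimeSpectrum.vanishingIdeal T
  have hIT : ∀ P : PrimeSpectrum Γ(X, U₀), I ≤ P.asIdeal → hU₀.fromSpec P ∉ U := fun P hP => by
    have h : P ∈ PrimeSpectrum.zeroLocus (I : Set Γ(X, U₀)) := hP
    rw [PrimeSpectrum.zeroLocus_vanishingIdeal_eq_closure, hT.closure_eq] at h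
    exact h
  have hIle : ∀ a ∈ I, X.basicOpen a ≤ U := fun a ha z hz => by
    have hzU₀ : z ∈ U₀ := X.basicOpen_le a hz
    by_contra hzU
    refine (RegImm44.mem_basicOpen_iff hU₀ ⟨z, hzU₀⟩ a).1 hz ?_
    refine (PrimeSpectrum.mem_vanishingIdeal _ _).1 ha _ ?_
    show hU₀.fromSpec (hU₀.primeIdealOf ⟨z, hzU₀⟩) ∉ U
    rw [hU₀.fromSpec_primeIdealOf ⟨z, hzU₀⟩]
    exact hzU
  have hIQ : I ≤ (hU₀.primeIdealOf ⟨q.fiberι s w, hx₀⟩).asIdeal := fun a ha => by
    refine (PrimeSpectrum.mem_vanishingIdeal _ _).1 ha _ ?_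
    show hU₀.fromSpec (hU₀.primeIdealOf ⟨q.fiberι s w, hx₀⟩) ∉ U
    rw [hU₀.fromSpec_primeIdealOf ⟨q.fiberι s w, hx₀⟩]
    exact hxU
  haveI := hreg s w
  have hht : (2 : ℕ∞) ≤
      ((I.map (X.presheaf.germ U₀ _ hx₀).hom).map ((q.fiberι s).stalkMap w).hom).height := by
    rw [Ideal.height_eq_inf_minimalPrimes]
    refine le_iInf₂ fun P hP => ?_
    haveI := hP.isPrime
    let P' : PrimeSpectrum ((q.fiber s).presheaf.stalk w) := ⟨P, hP.isPrime⟩
    have hy : q.fiberι s ((q.fiber s).fromSpecStalk w P') =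
        hU₀.fromSpec (PrimeSpectrum.comap (X.presheaf.germ U₀ _ hx₀).hom
          (PrimeSpectrum.comap ((q.fiberι s).stalkMap w).hom P')) := by
      rw [← Scheme.Hom.comp_apply, ← Scheme.SpecMap_stalkMap_fromSpecStalk,
        ← hU₀.fromSpecStalk_eq_fromSpecStalk hx₀]
      rfl
    have hnU : q.fiberι s ((q.fiber s).fromSpecStalk w P') ∉ U := by
      rw [hy]
      refine hIT _ ?_
      rw [PrimeSpectrum.comap_asIdeal, PrimeSpectrum.comap_asIdeal, ← Ideal.map_le_iff_le_comap,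
        ← Ideal.map_le_iff_le_comap]
      exact hP.1.2
    have h2 := hU _ hnU
    rw [← CIntCodim.dim_fiberStalk_eq q, ← PurLib.height_eq_ringKrullDim_stalk w P'] at h2
    exact WithBot.coe_le_coe.1 h2
  obtain ⟨a, ha, b, hb, g, hxg, hreg'⟩ := exists_pair_of_height q s w hW hU₀
    (le_trans (show U₀ ≤ q ⁻¹ᵁ W ⊓ V from hle₀) inf_le_left) hx₀ I hIQ hht
  refine ⟨X.basicOpen g, hU₀.basicOpen g, hxg,
    (X.basicOpen_le g).trans (le_trans (show U₀ ≤ q ⁻¹ᵁ W ⊓ V from hle₀) inf_le_right), _, _, hreg', ?_, ?_⟩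
  · rw [Scheme.basicOpen_res]; exact inf_le_right.trans (hIle a ha)
  · rw [Scheme.basicOpen_res]; exact inf_le_right.trans (hIle b hb)

/-! ## Sections -/

/-- Restriction, as a ring map. -/
noncomputable abbrev res {V W : X.Opens} (h : W ≤ V) : Γ(X, V) →+* Γ(X, W) :=
  (X.presheaf.map (homOfLE h).op).hom

theorem res_res {V W T : X.Opens} (h : W ≤ V) (h' : T ≤ W) (m : Γ(X, V)) :
    res h' (res h m) = res (h'.trans h) m := by
  rw [res, res, ← CommRingCat.comp_apply, ← Functor.map_comp]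
  rfl

theorem dvd_of_pow_dvd_pow_mul {R : Type u} [CommRing R] {a b : R} (ha : IsSMulRegular R a)
    (hb : ∀ x, a ∣ b * x → a ∣ x) (n : ℕ) : ∀ (k : ℕ) (x : R), a ^ n ∣ b ^ k * x → a ^ n ∣ x := by
  have h1 : ∀ (n : ℕ) (x : R), a ^ n ∣ b * x → a ^ n ∣ x := by
    intro n
    induction n with
    | zero => intro x _; simp
    | succ n ih =>
      intro x hx
      obtain ⟨y, rfl⟩ := hb x ((dvd_pow_self a n.succ_ne_zero).trans hx)
      obtain ⟨c, hc⟩ := hx
      have h : b * y = a ^ n * c := ha (show a * (b * y) = a * (a ^ n * c) by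
        rw [← mul_assoc a (a ^ n), ← pow_succ', ← hc]; ring)
      rw [pow_succ']
      exact mul_dvd_mul_left a (ih y ⟨c, h⟩)
  intro k
  induction k with
  | zero => intro x hx; simpa using hx
  | succ k ih =>
    intro x hx
    refine h1 n x (ih _ ?_)
    rwa [← mul_assoc, ← pow_succ]

theorem regular_of_pair {R : Type u} [CommRing R] {a b : R} (h : IsWeaklyRegular R [a, b]) :
    IsSMulRegular R a ∧ ∀ x, a ∣ b * x → a ∣ x := by
  have h' := (isWeaklyRegular_cons_iff R a [b]).1 h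
  refine ⟨h'.1, fun x hx => ?_⟩
  have hb := ((isWeaklyRegular_cons_iff _ b []).1 h'.2).1
  have hmem : ∀ y : R, (Submodule.Quotient.mk y : QuotSMulTop a R) = 0 ↔ a ∣ y := fun y => by
    rw [Submodule.Quotient.mk_eq_zero, Submodule.mem_smul_pointwise_iff_exists]
    exact ⟨fun ⟨v, _, hv⟩ => ⟨v, hv.symm⟩, fun ⟨v, hv⟩ => ⟨v, trivial, hv.symm⟩⟩
  refine (hmem x).1 (hb (a₂ := 0) ?_)
  show b • Submodule.Quotient.mk x = b • (0 : QuotSMulTop a R)
  rw [smul_zero, ← Submodule.Quotient.mk_smul, smul_eq_mul, (hmem _).2 hx]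

/-- A section vanishing where a regular function is invertible vanishes. -/
theorem eq_zero_of_res_basicOpen {D : X.Opens} (hD : IsAffineOpen D) (a : Γ(X, D))
    (ha : IsSMulRegular Γ(X, D) a) {O : X.Opens} (hO : O ≤ D) (τ : Γ(X, O))
    (hτ : res (inf_le_left : O ⊓ X.basicOpen a ≤ O) τ = 0) : τ = 0 := by
  refine X.sheaf.eq_of_locally_eq' (fun z : ↥O => X.basicOpen (Classical.choose
      (hD.exists_basicOpen_le z (hO z.2)))) O
    (fun z => homOfLE (Classical.choose_spec (hD.exists_basicOpen_le z (hO z.2))).1)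
    (fun y hy => TopologicalSpace.Opens.mem_iSup.2
      ⟨⟨y, hy⟩, (Classical.choose_spec (hD.exists_basicOpen_le ⟨y, hy⟩ (hO hy))).2⟩) _ _ fun z => ?_
  set h := Classical.choose (hD.exists_basicOpen_le z (hO z.2))
  have hle : X.basicOpen h ≤ O := (Classical.choose_spec (hD.exists_basicOpen_le z (hO z.2))).1
  show res hle τ = res hle 0
  rw [map_zero]
  have hle' : X.basicOpen h ≤ D := hle.trans hO
  letI := (res hle').toAlgebra
  haveI : IsLocalization.Away h Γ(X, X.basicOpen h) := hD.isLocalization_basicOpen h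
  haveI : Module.Flat Γ(X, D) Γ(X, X.basicOpen h) := IsLocalization.flat _ (Submonoid.powers h)
  have ha' : IsSMulRegular Γ(X, X.basicOpen h) (res hle' a) := ha.of_flat
  let a' := res hle' a
  letI : Algebra Γ(X, X.basicOpen h) Γ(X, X.basicOpen a') := (res (X.basicOpen_le a')).toAlgebra
  haveI : IsLocalization.Away a' Γ(X, X.basicOpen a') := (hD.basicOpen h).isLocalization_basicOpen a'
  have hle'' : X.basicOpen a' ≤ O ⊓ X.basicOpen a := by
    show X.basicOpen (res hle' a) ≤ _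
    rw [Scheme.basicOpen_res]
    exact inf_le_inf_right _ hle
  have h0 : algebraMap Γ(X, X.basicOpen h) Γ(X, X.basicOpen a') (res hle τ) = 0 := by
    show res (X.basicOpen_le a') (res hle τ) = 0
    rw [res_res, ← res_res inf_le_left hle'', hτ, map_zero]
  obtain ⟨⟨_, n, rfl⟩, hn⟩ := (IsLocalization.map_eq_zero_iff (Submonoid.powers a') _ _).1 h0
  exact (ha'.pow n).eq_iff.1 (hn.trans (mul_zero _).symm)

variable (q : X ⟶ S) [Flat q] [LocallyOfFinitePresentation q]
  (hreg : ∀ (s : S) (w : q.fiber s), IsRegularLocalRing ((q.fiber s).presheaf.stalk w)) (U : X.Opens)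
  (hU : ∀ x : X, x ∉ U → (2 : WithBot ℕ∞) ≤ ringKrullDim (CInt.fiberStalk q x))

include hreg hU in
theorem res_injective (V : X.Opens) : Function.Injective (res (inf_le_left : V ⊓ U ≤ V)) := by
  rw [injective_iff_map_eq_zero]
  intro m hm
  have hex : ∀ x : ↥V, ∃ (E : X.Opens) (hE : E ≤ V), (x : X) ∈ E ∧ res hE m = 0 := by
    rintro ⟨x, hx⟩
    by_cases hxU : x ∈ U
    · exact ⟨V ⊓ U, inf_le_left, ⟨hx, hxU⟩, hm⟩
    obtain ⟨D, hD, hxD, hDV, a, b, hab, haU, -⟩ := exists_pair q hreg U hU V x hx hxU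
    refine ⟨D, hDV, hxD, eq_zero_of_res_basicOpen hD a (regular_of_pair hab).1 le_rfl _ ?_⟩
    have hle : D ⊓ X.basicOpen a ≤ V ⊓ U := inf_le_inf hDV haU
    rw [res_res, ← res_res inf_le_left hle, hm, map_zero]
  choose E hE hxE hm' using hex
  exact X.sheaf.eq_of_locally_eq' E V (fun x => homOfLE (hE x))
    (fun y hy => TopologicalSpace.Opens.mem_iSup.2 ⟨⟨y, hy⟩, hxE _⟩) _ _
    fun x => (hm' x).trans (map_zero (res (hE x))).symm

include hreg hU in
theorem isSchematicallyDense : CInt.IsSchematicallyDense U := fun V => res_injective q hreg U hU V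

include hreg hU in
theorem res_surjective (V : X.Opens) : Function.Surjective (res (inf_le_left : V ⊓ U ≤ V)) := by
  intro σ
  have hex : ∀ x : ↥V, ∃ (E : X.Opens) (hE : E ≤ V), (x : X) ∈ E ∧ ∃ c : Γ(X, E),
      res (inf_le_left : E ⊓ U ≤ E) c = res (inf_le_inf_right U hE) σ := by
    rintro ⟨x, hx⟩
    by_cases hxU : x ∈ U
    · exact ⟨V ⊓ U, inf_le_left, ⟨hx, hxU⟩, σ, rfl⟩
    obtain ⟨D, hD, hxD, hDV, a, b, hab, haU, hbU⟩ := exists_pair q hreg U hU V x hx hxU
    refine ⟨D, hDV, hxD, ?_⟩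
    obtain ⟨ha, hb⟩ := regular_of_pair hab
    letI : Algebra Γ(X, D) Γ(X, X.basicOpen a) := (res (X.basicOpen_le a)).toAlgebra
    letI : Algebra Γ(X, D) Γ(X, X.basicOpen b) := (res (X.basicOpen_le b)).toAlgebra
    letI : Algebra Γ(X, D) Γ(X, X.basicOpen (a * b)) := (res (X.basicOpen_le (a * b))).toAlgebra
    haveI := hD.isLocalization_basicOpen a
    haveI := hD.isLocalization_basicOpen b
    haveI := hD.isLocalization_basicOpen (a * b)
    let τ := res (inf_le_inf_right U hDV) σ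
    have hla : X.basicOpen a ≤ D ⊓ U := le_inf (X.basicOpen_le a) haU
    have hlb : X.basicOpen b ≤ D ⊓ U := le_inf (X.basicOpen_le b) hbU
    obtain ⟨⟨c₁, _, n, rfl⟩, h₁⟩ := IsLocalization.surj (Submonoid.powers a) (res hla τ)
    obtain ⟨⟨c₂, _, m, rfl⟩, h₂⟩ := IsLocalization.surj (Submonoid.powers b) (res hlb τ)
    simp only at h₁ h₂
    have hab' : X.basicOpen (a * b) = X.basicOpen a ⊓ X.basicOpen b := X.basicOpen_mul a b
    have e₁ := congrArg (res (hab'.le.trans inf_le_left)) h₁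
    have e₂ := congrArg (res (hab'.le.trans inf_le_right)) h₂
    simp only [RingHom.algebraMap_toAlgebra, map_mul, res_res] at e₁ e₂
    have h0 : algebraMap Γ(X, D) Γ(X, X.basicOpen (a * b)) (b ^ m * c₁ - a ^ n * c₂) = 0 := by
      simp only [RingHom.algebraMap_toAlgebra, map_sub, map_mul, ← e₁, ← e₂]
      ring
    obtain ⟨⟨_, N, rfl⟩, hN⟩ := (IsLocalization.map_eq_zero_iff (Submonoid.powers (a * b)) _ _).1 h0
    have h3 : b ^ N * (b ^ m * c₁ - a ^ n * c₂) = 0 := (ha.pow N).eq_iff.1 (by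
      show a ^ N * (b ^ N * _) = a ^ N * 0
      rw [mul_zero, ← mul_assoc, ← mul_pow]
      exact hN)
    obtain ⟨c, rfl⟩ := dvd_of_pow_dvd_pow_mul ha hb n (N + m) c₁ ⟨b ^ N * c₂, by
      rw [pow_add]; linear_combination h3⟩
    refine ⟨c, sub_eq_zero.1 (eq_zero_of_res_basicOpen hD a ha inf_le_left _ ?_)⟩
    have hu : IsUnit (res (X.basicOpen_le a) (a ^ n)) := by
      rw [map_pow]; exact (X.toRingedSpace.isUnit_res_basicOpen a).pow n
    have h4 : res (X.basicOpen_le a) c = res hla τ := hu.mul_right_cancel (by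
      rw [← map_mul, mul_comm c]; exact h₁.symm)
    have hlt : D ⊓ U ⊓ X.basicOpen a ≤ X.basicOpen a := inf_le_right
    rw [map_sub, sub_eq_zero]
    calc res inf_le_left (res inf_le_left c) = res hlt (res (X.basicOpen_le a) c) := by rw [res_res, res_res]
      _ = res hlt (res hla τ) := by rw [h4]
      _ = res inf_le_left τ := by rw [res_res]
  choose E hE hxE c hc using hex
  have hcomp : TopCat.Presheaf.IsCompatible X.presheaf E c := by
    intro i j
    refine res_injective q hreg U hU _ ?_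
    show res inf_le_left (res inf_le_left (c i)) = res inf_le_left (res inf_le_right (c j))
    have hi : E i ⊓ E j ⊓ U ≤ E i ⊓ U := inf_le_inf_right U inf_le_left
    have hj : E i ⊓ E j ⊓ U ≤ E j ⊓ U := inf_le_inf_right U inf_le_right
    rw [res_res, res_res, ← res_res inf_le_left hi, hc, ← res_res inf_le_left hj, hc, res_res, res_res]
  obtain ⟨s, hs, -⟩ := X.sheaf.existsUnique_gluing' E V (fun x => homOfLE (hE x))
    (fun y hy => TopologicalSpace.Opens.mem_iSup.2 ⟨⟨y, hy⟩, hxE _⟩) c hcomp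
  refine ⟨s, X.sheaf.eq_of_locally_eq' (fun x => E x ⊓ U) (V ⊓ U)
    (fun x => homOfLE (inf_le_inf_right U (hE x)))
    (fun y hy => TopologicalSpace.Opens.mem_iSup.2 ⟨⟨y, hy.1⟩, hxE _, hy.2⟩) _ _ fun x => ?_⟩
  show res (inf_le_inf_right U (hE x)) (res inf_le_left s) = res _ σ
  rw [res_res, ← res_res (hE x) inf_le_left, show res (hE x) s = c x from hs x, hc]

end Groth.Agent.BigOpen12
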