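import Groth.Agent.BigOpen12.Basic
import Groth.Agent.Depth.Local

/-!
# Fibrewise schematically dense opens

* `exists_regular_near`: a sequence regular on the fibre's local ring is regular on a basic open.
* `isSchematicallyDense_of_fibres`: fibrewise schematic density implies schematic density (EGA IV 11.10.10).
-/

set_option autoImplicit false
set_option linter.style.haveILetI false

universe u

open CategoryTheory CategoryTheory.Limits AlgebraicGeometry IsLocalRing RingTheory.Sequence Opposite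

namespace Groth.Agent.BigOpen12

variable {X S : Scheme.{u}}

/-- A sequence regular on the fibre's local ring is regular near the point. -/
theorem exists_regular_near (q : X ⟶ S) [Flat q] [LocallyOfFinitePresentation q] (s : S) (w : q.fiber s)
    {W : S.Opens} (hW : IsAffineOpen W) {U : X.Opens} (hU : IsAffineOpen U) (hle : U ≤ q ⁻¹ᵁ W)
    (hx : q.fiberι s w ∈ U) (bs : List Γ(X, U))
    (hbs : IsWeaklyRegular ((q.fiber s).presheaf.stalk w)
      (bs.map fun b => ((q.fiberι s).stalkMap w).hom ((X.presheaf.germ U _ hx).hom b))) :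
    ∃ g : Γ(X, U), q.fiberι s w ∈ X.basicOpen g ∧
      IsWeaklyRegular Γ(X, X.basicOpen g) (bs.map (X.presheaf.map (homOfLE (X.basicOpen_le g)).op).hom) := by
  set x := q.fiberι s w with hxdef
  let A := S.presheaf.stalk (q x)
  let C := X.presheaf.stalk x
  let D := (q.fiber s).presheaf.stalk w
  let π : C →+* D := ((q.fiberι s).stalkMap w).hom
  letI : Algebra A C := (q.stalkMap x).hom.toAlgebra
  haveI : IsLocalHom (algebraMap A C) := inferInstanceAs (IsLocalHom (q.stalkMap x).hom)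
  haveI : Module.Flat A C := Flat.stalkMap q x
  have hπ : Function.Surjective π := (q.fiberι s).stalkMap_surjective w
  have hk : RingHom.ker π = EGA4.mB A C := FlatMor.FibreStalk.ker_stalkMap_fiberι q s w
  letI : Algebra Γ(X, U) C := (X.presheaf.germ U x hx).hom.toAlgebra
  haveI hlocC : IsLocalization.AtPrime C (hU.primeIdealOf ⟨x, hx⟩).asIdeal := hU.isLocalization_stalk ⟨x, hx⟩
  letI : Algebra Γ(S, W) A := (S.presheaf.germ W (q x) (hle hx)).hom.toAlgebra
  letI : Algebra Γ(S, W) Γ(X, U) := (q.appLE W U hle).hom.toAlgebra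
  letI : Algebra Γ(S, W) C := ((algebraMap A C).comp (algebraMap Γ(S, W) A)).toAlgebra
  haveI : IsScalarTower Γ(S, W) A C := .of_algebraMap_eq' rfl
  haveI : IsScalarTower Γ(S, W) Γ(X, U) C := .of_algebraMap_eq fun r => by
    show (q.stalkMap x).hom ((S.presheaf.germ W (q x) (hle hx)).hom r) =
      (X.presheaf.germ U x hx).hom ((q.appLE W U hle).hom r)
    rw [Scheme.Hom.germ_stalkMap_apply, Scheme.Hom.appLE, CommRingCat.comp_apply,
      TopCat.Presheaf.germ_res_apply]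
  haveI : Algebra.FinitePresentation Γ(S, W) Γ(X, U) := q.finitePresentation_appLE hW hU hle
  have hQ : (hU.primeIdealOf ⟨x, hx⟩).asIdeal.comap (algebraMap Γ(S, W) Γ(X, U)) =
      (hW.primeIdealOf ⟨q x, hle hx⟩).asIdeal :=
    congrArg PrimeSpectrum.asIdeal (IsAffineOpen.comap_primeIdealOf_appLE W hW U hU hle (f := q) (x := x) hx)
  haveI : IsLocalization.AtPrime A
      ((hU.primeIdealOf ⟨x, hx⟩).asIdeal.comap (algebraMap Γ(S, W) Γ(X, U))) := by
    have h : IsLocalization.AtPrime A (hW.primeIdealOf ⟨q x, hle hx⟩).asIdeal :=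
      hW.isLocalization_stalk ⟨q x, hle hx⟩
    simpa only [IsLocalization.AtPrime, hQ] using h
  let e : EGA4.FibRing A C ≃+* D :=
    (Ideal.quotEquivOfEq hk.symm).trans (RingHom.quotientKerEquivOfSurjective hπ)
  have hF := isWeaklyRegular_map_equiv e.symm hbs
  have hF' : IsWeaklyRegular (EGA4.FibRing A C)
      (bs.map fun c => Ideal.Quotient.mk (EGA4.mB A C) (algebraMap Γ(X, U) C c)) := by
    rw [List.map_map] at hF
    refine (List.map_congr_left fun y _ => ?_) ▸ hF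
    exact e.symm_apply_eq.2 rfl
  obtain ⟨g, hgQ, hg⟩ := CIntCI.exists_away_regular (R := Γ(S, W)) (A := A) (C := C)
    (hU.primeIdealOf ⟨x, hx⟩).asIdeal bs hF'
  letI : Algebra Γ(X, U) Γ(X, X.basicOpen g) :=
    (X.presheaf.map (homOfLE (X.basicOpen_le g)).op).hom.toAlgebra
  letI : Algebra Γ(S, W) Γ(X, X.basicOpen g) :=
    ((algebraMap Γ(X, U) Γ(X, X.basicOpen g)).comp (algebraMap Γ(S, W) Γ(X, U))).toAlgebra
  haveI : IsScalarTower Γ(S, W) Γ(X, U) Γ(X, X.basicOpen g) := .of_algebraMap_eq' rfl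
  haveI := hU.isLocalization_basicOpen g
  exact ⟨g, (RegImm44.mem_basicOpen_iff hU ⟨x, hx⟩ g).2 hgQ, hg Γ(X, X.basicOpen g)⟩

/-- A fibrewise schematically dense open of a flat lfp scheme is schematically dense. -/
theorem isSchematicallyDense_of_fibres (q : X ⟶ S) [Flat q] [LocallyOfFinitePresentation q] (U : X.Opens)
    (hU : ∀ s : S, CInt.IsSchematicallyDense ((q.fiberι s) ⁻¹ᵁ U)) : CInt.IsSchematicallyDense U := by
  classical
  intro V
  rw [injective_iff_map_eq_zero]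
  intro m hm
  suffices hex : ∀ x : ↥V, ∃ (E : X.Opens) (hE : E ≤ V), (x : X) ∈ E ∧ res hE m = 0 by
    choose E hE hxE hm' using hex
    exact X.sheaf.eq_of_locally_eq' E V (fun x => homOfLE (hE x))
      (fun y hy => TopologicalSpace.Opens.mem_iSup.2 ⟨⟨y, hy⟩, hxE _⟩) _ _
      fun x => (hm' x).trans (map_zero (res (hE x))).symm
  rintro ⟨x, hxV⟩
  by_cases hxU : x ∈ U
  · exact ⟨V ⊓ U, inf_le_left, ⟨hxV, hxU⟩, hm⟩
  obtain ⟨s, w, rfl⟩ : ∃ (s : S) (w : q.fiber s), q.fiberι s w = x :=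
    ⟨q x, q.asFiber x, Scheme.Hom.fiberι_asFiber q x⟩
  obtain ⟨W, hW, hsW, -⟩ :=
    exists_isAffineOpen_mem_and_subset (show q (q.fiberι s w) ∈ (⊤ : S.Opens) from trivial)
  obtain ⟨U₀, hU₀, hx₀, hle₀⟩ :=
    exists_isAffineOpen_mem_and_subset (show q.fiberι s w ∈ q ⁻¹ᵁ W ⊓ V from ⟨hsW, hxV⟩)
  have hW₀ : U₀ ≤ q ⁻¹ᵁ W := le_trans (show U₀ ≤ q ⁻¹ᵁ W ⊓ V from hle₀) inf_le_left
  have hV₀ : U₀ ≤ V := le_trans (show U₀ ≤ q ⁻¹ᵁ W ⊓ V from hle₀) inf_le_right
  haveI := CIntCI.isLocallyNoetherian_fiber q s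
  let fι := q.fiberι s
  let D := (q.fiber s).presheaf.stalk w
  let ψ : Γ(X, U₀) →+* D := (fι.stalkMap w).hom.comp (X.presheaf.germ U₀ _ hx₀).hom
  let T : Set (PrimeSpectrum Γ(X, U₀)) := hU₀.fromSpec ⁻¹' ((U : Set X)ᶜ)
  have hT : IsClosed T := U.2.isClosed_compl.preimage hU₀.fromSpec.continuous
  let I := PrimeSpectrum.vanishingIdeal T
  have hIle : ∀ a ∈ I, X.basicOpen a ≤ U := fun a ha z hz => by
    have hzU₀ : z ∈ U₀ := X.basicOpen_le a hz
    by_contra hzU
    refine (RegImm44.mem_basicOpen_iff hU₀ ⟨z, hzU₀⟩ a).1 hz ?_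
    refine (PrimeSpectrum.mem_vanishingIdeal _ _).1 ha _ ?_
    show hU₀.fromSpec (hU₀.primeIdealOf ⟨z, hzU₀⟩) ∉ U
    rw [hU₀.fromSpec_primeIdealOf ⟨z, hzU₀⟩]
    exact hzU
  have hIcov : ∀ z ∈ U₀ ⊓ U, ∃ a ∈ I, z ∈ X.basicOpen a := fun z hz => by
    by_contra h
    push Not at h
    have hI' : I ≤ (hU₀.primeIdealOf ⟨z, hz.1⟩).asIdeal := fun a ha => by
      by_contra hc
      exact h a ha ((RegImm44.mem_basicOpen_iff hU₀ ⟨z, hz.1⟩ a).2 hc)
    have h2 : hU₀.primeIdealOf ⟨z, hz.1⟩ ∈ PrimeSpectrum.zeroLocus (I : Set Γ(X, U₀)) := hI'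
    rw [PrimeSpectrum.zeroLocus_vanishingIdeal_eq_closure, hT.closure_eq] at h2
    refine h2 ?_
    show hU₀.fromSpec (hU₀.primeIdealOf ⟨z, hz.1⟩) ∈ U
    rw [hU₀.fromSpec_primeIdealOf ⟨z, hz.1⟩]
    exact hz.2
  -- no nonzero germ on the fibre is killed by `I`
  have hkill : ∀ c : D, (∀ a ∈ I, ψ a * c = 0) → c = 0 := by
    intro c hc
    obtain ⟨O₀, hwO₀, m₀, rfl⟩ := (q.fiber s).presheaf.exists_germ_eq c
    obtain ⟨O, hO, hwO, hOle⟩ := exists_isAffineOpen_mem_and_subset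
      (show w ∈ O₀ ⊓ fι ⁻¹ᵁ U₀ from ⟨hwO₀, hx₀⟩)
    have hOO : O ≤ O₀ := le_trans (show O ≤ O₀ ⊓ fι ⁻¹ᵁ U₀ from hOle) inf_le_left
    have hOU : O ≤ fι ⁻¹ᵁ U₀ := le_trans (show O ≤ O₀ ⊓ fι ⁻¹ᵁ U₀ from hOle) inf_le_right
    let ρ : Γ(X, U₀) →+* Γ(q.fiber s, O) := (fι.appLE U₀ O hOU).hom
    haveI : IsNoetherianRing Γ(q.fiber s, O) := IsLocallyNoetherian.component_noetherian ⟨O, hO⟩
    obtain ⟨G, hG⟩ := IsNoetherian.noetherian (I.map ρ)
    let m₁ : Γ(q.fiber s, O) := res hOO m₀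
    have hψ : ∀ a, ψ a = (q.fiber s).presheaf.germ O w hwO (ρ a) := fun a => by
      show (fι.stalkMap w).hom ((X.presheaf.germ U₀ _ hx₀).hom a) = _
      rw [Scheme.Hom.germ_stalkMap_apply]
      show _ = (q.fiber s).presheaf.germ O w hwO ((fι.appLE U₀ O hOU).hom a)
      rw [Scheme.Hom.appLE, CommRingCat.comp_apply, TopCat.Presheaf.germ_res_apply]
    have hG0 : ∀ b ∈ G, (q.fiber s).presheaf.germ O w hwO (b * m₁) = 0 := by
      intro b hb
      have hb' : b ∈ I.map ρ := hG ▸ Ideal.subset_span hb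
      refine Submodule.span_induction (p := fun y _ => (q.fiber s).presheaf.germ O w hwO (y * m₁) = 0)
        ?_ ?_ ?_ ?_ (show b ∈ Submodule.span Γ(q.fiber s, O) (ρ '' (I : Set Γ(X, U₀))) from hb')
      · rintro _ ⟨a, ha, rfl⟩
        rw [map_mul, ← hψ]
        refine Eq.trans (congrArg (ψ a * ·) ?_) (hc a ha)
        exact TopCat.Presheaf.germ_res_apply _ _ w hwO m₀
      · rw [zero_mul, map_zero]
      · intro y z _ _ hy hz; rw [add_mul, map_add, hy, hz, add_zero]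
      · intro r y _ hy; rw [smul_eq_mul, mul_assoc, map_mul, hy, mul_zero]
    have hW' : ∀ b ∈ G, ∃ (O₁ : (q.fiber s).Opens) (h : O₁ ≤ O), w ∈ O₁ ∧ res h (b * m₁) = 0 := fun b hb => by
      obtain ⟨O₁, hw₁, i₁, i₂, h⟩ := (q.fiber s).presheaf.germ_eq w hwO hwO (b * m₁) 0
        ((hG0 b hb).trans (map_zero _).symm)
      refine ⟨O₁, i₁.le, hw₁, ?_⟩
      exact h.trans (map_zero _)
    choose O₁ hO₁ hwO₁ hm₁ using hW'
    let O' : (q.fiber s).Opens := O ⊓ G.attach.inf fun b => O₁ b.1 b.2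
    have hwO' : w ∈ O' := ⟨hwO, Finset.inf_induction (p := fun E : (q.fiber s).Opens => w ∈ E) trivial
      (fun _ ha _ hb => ⟨ha, hb⟩) fun b _ => hwO₁ b.1 b.2⟩
    have hO'le : O' ≤ O := inf_le_left
    have hkill' : ∀ b ∈ I.map ρ, res hO'le b * res hO'le m₁ = 0 := by
      intro b hb
      rw [← hG] at hb
      refine Submodule.span_induction (p := fun y _ => res hO'le y * res hO'le m₁ = 0) ?_ ?_ ?_ ?_ hb
      · intro y hy
        have hle : O' ≤ O₁ y hy :=
          inf_le_right.trans (Finset.inf_le (f := fun b : G => O₁ b.1 b.2) (Finset.mem_attach G ⟨y, hy⟩))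
        rw [← map_mul, ← res_res (hO₁ y hy) hle, hm₁ y hy, map_zero]
      · rw [map_zero, zero_mul]
      · intro y z _ _ hy hz; rw [map_add, add_mul, hy, hz, add_zero]
      · intro r y _ hy; rw [smul_eq_mul, map_mul, mul_assoc, hy, mul_zero]
    have hm0 : res hO'le m₁ = 0 := by
      refine hU s O' ?_
      rw [map_zero]
      refine (q.fiber s).sheaf.eq_of_locally_eq'
        (fun z : ↥(O' ⊓ fι ⁻¹ᵁ U) => O' ⊓ fι ⁻¹ᵁ U ⊓
          (q.fiber s).basicOpen (ρ (Classical.choose (hIcov (fι z.1) ⟨hOU (hO'le z.2.1), z.2.2⟩))))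
        _ (fun z => homOfLE inf_le_left) (fun z hz => TopologicalSpace.Opens.mem_iSup.2 ⟨⟨z, hz⟩, hz, ?_⟩)
        _ _ fun z => ?_
      · show z ∈ (q.fiber s).basicOpen ((fι.appLE U₀ O hOU).hom _)
        rw [Scheme.basicOpen_appLE]
        exact ⟨hO'le hz.1, (Classical.choose_spec (hIcov (fι z) ⟨hOU (hO'le hz.1), hz.2⟩)).2⟩
      · set a := Classical.choose (hIcov (fι z.1) ⟨hOU (hO'le z.2.1), z.2.2⟩)
        have ha : a ∈ I := (Classical.choose_spec (hIcov (fι z.1) ⟨hOU (hO'le z.2.1), z.2.2⟩)).1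
        have hleE : O' ⊓ fι ⁻¹ᵁ U ⊓ (q.fiber s).basicOpen (ρ a) ≤ O' := inf_le_left.trans inf_le_left
        show res inf_le_left (res inf_le_left (res hO'le m₁)) = res inf_le_left 0
        rw [map_zero]
        have h0 : res hleE (res hO'le (ρ a)) * res hleE (res hO'le m₁) = 0 := by
          rw [← map_mul, hkill' _ (Ideal.mem_map_of_mem ρ ha), map_zero]
        have hu : IsUnit (res hleE (res hO'le (ρ a))) := by
          have := ((q.fiber s).toRingedSpace.isUnit_res_basicOpen (ρ a)).map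
            (res (inf_le_right : O' ⊓ fι ⁻¹ᵁ U ⊓ (q.fiber s).basicOpen (ρ a) ≤ (q.fiber s).basicOpen (ρ a)))
          rw [res_res]
          exact (res_res ((q.fiber s).basicOpen_le (ρ a)) _ (ρ a)) ▸ this
        rw [res_res inf_le_left inf_le_left]
        exact hu.mul_right_eq_zero.1 h0
    rw [← TopCat.Presheaf.germ_res_apply _ (homOfLE hOO) w hwO m₀,
      ← TopCat.Presheaf.germ_res_apply _ (homOfLE hO'le) w hwO' (res hOO m₀)]
    exact (congrArg _ hm0).trans (map_zero _)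
  have hJ : ∀ P ∈ associatedPrimes D D, ¬ I.map ψ ≤ P := by
    intro P hP hle
    obtain ⟨hPp, c, hc⟩ := isAssociatedPrime_iff.1 hP
    have h0 : c = 0 := hkill c fun a ha => by
      have : ψ a ∈ P := hle (Ideal.mem_map_of_mem ψ ha)
      rw [hc, Submodule.mem_colon_singleton, Submodule.mem_bot] at this
      simpa [smul_eq_mul] using this
    exact hPp.ne_top (by rw [hc, h0]; simp)
  obtain ⟨r, hr, hreg⟩ := Depth.exists_isSMulRegular_of_forall_not_le hJ
  -- lift the regular element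
  letI : Algebra Γ(X, U₀) (X.presheaf.stalk (fι w)) := (X.presheaf.germ U₀ _ hx₀).hom.toAlgebra
  haveI : IsLocalization.AtPrime (X.presheaf.stalk (fι w)) (hU₀.primeIdealOf ⟨_, hx₀⟩).asIdeal :=
    hU₀.isLocalization_stalk ⟨_, hx₀⟩
  rw [← Ideal.map_map] at hr
  obtain ⟨t, ht, rfl⟩ := (Ideal.mem_map_iff_of_surjective _ ((q.fiberι s).stalkMap_surjective w)).1 hr
  obtain ⟨⟨⟨a, ha⟩, s'⟩, has⟩ :=
    (IsLocalization.mem_map_algebraMap_iff (hU₀.primeIdealOf ⟨_, hx₀⟩).asIdeal.primeCompl _).1 ht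
  have hu : IsUnit ((fι.stalkMap w).hom (algebraMap Γ(X, U₀) _ (s' : Γ(X, U₀)))) :=
    (IsLocalization.map_units (X.presheaf.stalk (fι w)) s').map _
  have hrega : IsSMulRegular D ((fι.stalkMap w).hom (algebraMap Γ(X, U₀) _ a)) := by
    rw [← has, map_mul, mul_comm]
    exact hu.isSMulRegular D |>.mul hreg
  obtain ⟨g, hxg, hg⟩ := exists_regular_near q s w hW hU₀ hW₀ hx₀ [a] (by
    simp only [List.map_cons, List.map_nil]
    exact (isWeaklyRegular_cons_iff D _ []).2 ⟨hrega, IsWeaklyRegular.nil _ _⟩)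
  simp only [List.map_cons, List.map_nil] at hg
  refine ⟨X.basicOpen g, (X.basicOpen_le g).trans hV₀, hxg, ?_⟩
  refine eq_zero_of_res_basicOpen (hU₀.basicOpen g) _ ((isWeaklyRegular_cons_iff _ _ []).1 hg).1 le_rfl _ ?_
  have hle' : X.basicOpen g ⊓ X.basicOpen (res (X.basicOpen_le g) a) ≤ V ⊓ U := by
    refine inf_le_inf ((X.basicOpen_le g).trans hV₀) ?_
    rw [Scheme.basicOpen_res]
    exact inf_le_right.trans (hIle a ha)
  rw [res_res, ← res_res inf_le_left hle', hm, map_zero]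

end Groth.Agent.BigOpen12
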