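import Groth.Agent.BigOpen12.Basic

/-!
# Extending sections of affine morphisms across a big open

* `res_bijective`: Hartogs as a bijection.
* `existsUnique_extension`: sections of an affine morphism extend uniquely.
* `two_le_depth`: the local rings at points of fibre codimension at least two have depth at least two.
-/

set_option autoImplicit false
set_option linter.style.haveILetI false

universe u

open CategoryTheory CategoryTheory.Limits AlgebraicGeometry IsLocalRing RingTheory.Sequence Opposite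

namespace Groth.Agent.BigOpen12

/-- Morphisms to an affine scheme only see global functions. -/
theorem existsUnique_of_isAffine {V W T : Scheme.{u}} [IsAffine T] (ι : W ⟶ V)
    (hι : Function.Bijective ι.appTop.hom) (σ : W ⟶ T) : ∃! τ : V ⟶ T, ι ≫ τ = σ := by
  haveI : IsIso ι.appTop := (ConcreteCategory.isIso_iff_bijective ι.appTop).2 hι
  refine ⟨V.toSpecΓ ≫ Spec.map (σ.appTop ≫ inv ι.appTop) ≫ T.isoSpec.inv, ?_, fun τ hτ => ?_⟩
  · show ι ≫ V.toSpecΓ ≫ Spec.map (σ.appTop ≫ inv ι.appTop) ≫ T.isoSpec.inv = σ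
    rw [Scheme.toSpecΓ_naturality_assoc, ← Spec.map_comp_assoc, Category.assoc, IsIso.inv_hom_id,
      Category.comp_id, ← Scheme.toSpecΓ_naturality_assoc, Scheme.toSpecΓ_isoSpec_inv, Category.comp_id]
  · subst hτ
    rw [Scheme.Hom.comp_appTop, Category.assoc, IsIso.hom_inv_id, Category.comp_id,
      ← Scheme.toSpecΓ_naturality_assoc, Scheme.toSpecΓ_isoSpec_inv, Category.comp_id]

variable {X S : Scheme.{u}} (q : X ⟶ S) [Flat q] [LocallyOfFinitePresentation q]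
  (hreg : ∀ (s : S) (w : q.fiber s), IsRegularLocalRing ((q.fiber s).presheaf.stalk w)) (U : X.Opens)
  (hU : ∀ x : X, x ∉ U → (2 : WithBot ℕ∞) ≤ ringKrullDim (CInt.fiberStalk q x))

include hreg hU in
theorem res_bijective (V : X.Opens) : Function.Bijective (res (inf_le_left : V ⊓ U ≤ V)) :=
  ⟨res_injective q hreg U hU V, res_surjective q hreg U hU V⟩

include hreg hU in
theorem res_bijective_of_eq {V W : X.Opens} (h : W ≤ V) (hW : W = V ⊓ U) : Function.Bijective (res h) := by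
  subst hW
  exact res_bijective q hreg U hU V

include hreg hU in
theorem appTop_ι_bijective (V : X.Opens) :
    Function.Bijective (V.ι ⁻¹ᵁ U).ι.appTop.hom := by
  show Function.Bijective ((V.ι ⁻¹ᵁ U).ι.app ⊤).hom
  rw [Scheme.Opens.ι_app]
  refine res_bijective_of_eq q hreg U hU
    (show V.ι ''ᵁ ((V.ι ⁻¹ᵁ U).ι ''ᵁ ((V.ι ⁻¹ᵁ U).ι ⁻¹ᵁ ⊤)) ≤ V.ι ''ᵁ ⊤ from
      Scheme.Hom.image_mono _ le_top) ?_
  rw [Scheme.Hom.preimage_top, Scheme.Opens.ι_image_top, Scheme.Opens.ι_image_top,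
    Scheme.Hom.image_preimage_eq_opensRange_inf, Scheme.Opens.opensRange_ι]

variable {Y : Scheme.{u}} (p : Y ⟶ X) (σ : (U : Scheme.{u}) ⟶ Y)

/-- `f` extends `σ` over the open immersion `j`. -/
def IsExt {Q : Scheme.{u}} (j : Q ⟶ X) (f : Q ⟶ Y) : Prop :=
  f ≫ p = j ∧ (j ⁻¹ᵁ U).ι ≫ f = (j ∣_ U) ≫ σ

omit [Flat q] [LocallyOfFinitePresentation q] in
variable {U p σ} in
theorem IsExt.comp {Q Q' : Scheme.{u}} {j : Q ⟶ X} {f : Q ⟶ Y} (h : IsExt U p σ j f) (k : Q' ⟶ Q) :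
    IsExt U p σ (k ≫ j) (k ≫ f) := by
  refine ⟨by rw [Category.assoc, h.1], ?_⟩
  show (k ⁻¹ᵁ (j ⁻¹ᵁ U)).ι ≫ k ≫ f = _
  rw [← morphismRestrict_ι_assoc, h.2, morphismRestrict_comp]
  exact (Category.assoc _ _ _).symm

variable [IsAffineHom p] (hσ : σ ≫ p = U.ι)

include hreg hU hσ in
theorem existsUnique_isExt_affine (V : X.Opens) (hV : IsAffineOpen V) : ∃! t, IsExt U p σ V.ι t := by
  have hYV : IsAffineOpen (p ⁻¹ᵁ V) := hV.preimage p
  haveI : IsAffine (p ⁻¹ᵁ V : Scheme.{u}) := hYV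
  haveI : IsAffine (V : Scheme.{u}) := hV
  have hfac : ∀ {Q : Scheme.{u}} (g : Q ⟶ (V : Scheme.{u})) (f : Q ⟶ Y), f ≫ p = g ≫ V.ι →
      Set.range f ⊆ Set.range (p ⁻¹ᵁ V).ι := by
    intro Q g f hf
    rw [Scheme.Opens.range_ι]
    rintro _ ⟨z, rfl⟩
    show p (f z) ∈ V
    rw [← Scheme.Hom.comp_apply, hf]
    exact (g z).2
  let U' := V.ι ⁻¹ᵁ U
  have hbij := appTop_ι_bijective q hreg U hU V
  have hσV : ((V.ι ∣_ U) ≫ σ) ≫ p = U'.ι ≫ V.ι := by rw [Category.assoc, hσ, morphismRestrict_ι]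
  let σ' : (U' : Scheme.{u}) ⟶ (p ⁻¹ᵁ V : Scheme.{u}) :=
    IsOpenImmersion.lift (p ⁻¹ᵁ V).ι ((V.ι ∣_ U) ≫ σ) (hfac _ _ hσV)
  obtain ⟨τ, hτ, huniq⟩ := existsUnique_of_isAffine U'.ι hbij σ'
  have hτV : τ ≫ (p ∣_ V) = 𝟙 _ := by
    refine (existsUnique_of_isAffine U'.ι hbij U'.ι).unique ?_ (Category.comp_id _)
    rw [← cancel_mono V.ι, Category.assoc, Category.assoc, morphismRestrict_ι, reassoc_of% hτ]
    show IsOpenImmersion.lift _ _ _ ≫ (p ⁻¹ᵁ V).ι ≫ p = _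
    rw [IsOpenImmersion.lift_fac_assoc]
    exact hσV
  refine ⟨τ ≫ (p ⁻¹ᵁ V).ι, ⟨?_, ?_⟩, fun t ht => ?_⟩
  · rw [Category.assoc, ← morphismRestrict_ι, reassoc_of% hτV]
  · rw [reassoc_of% hτ]
    exact IsOpenImmersion.lift_fac _ _ _
  · let t' := IsOpenImmersion.lift (p ⁻¹ᵁ V).ι t (hfac (𝟙 _) t (by rw [ht.1, Category.id_comp]))
    have ht' : t' = τ := huniq _ (by
      show U'.ι ≫ t' = σ'
      rw [← cancel_mono (p ⁻¹ᵁ V).ι, Category.assoc, IsOpenImmersion.lift_fac, IsOpenImmersion.lift_fac]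
      exact ht.2)
    rw [← ht', IsOpenImmersion.lift_fac]

include hreg hU hσ in
theorem isExt_unique {Q : Scheme.{u}} (j : Q ⟶ X) [IsOpenImmersion j] {f g : Q ⟶ Y}
    (hf : IsExt U p σ j f) (hg : IsExt U p σ j g) : f = g := by
  refine Scheme.hom_ext_of_forall f g fun z => ?_
  obtain ⟨V, hV, hz, hle⟩ := exists_isAffineOpen_mem_and_subset (show j z ∈ j.opensRange from ⟨z, rfl⟩)
  have hr : Set.range V.ι ⊆ Set.range j := by rw [Scheme.Opens.range_ι]; exact hle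
  let l := IsOpenImmersion.lift j V.ι hr
  have hl : l ≫ j = V.ι := IsOpenImmersion.lift_fac _ _ _
  have hfg : l ≫ f = l ≫ g :=
    (existsUnique_isExt_affine q hreg U hU p σ hσ V hV).unique (hl ▸ hf.comp l) (hl ▸ hg.comp l)
  refine ⟨j ⁻¹ᵁ V, hz, ?_⟩
  have h : (j ∣_ V) ≫ l = (j ⁻¹ᵁ V).ι := by
    rw [← cancel_mono j, Category.assoc, hl, morphismRestrict_ι]
  rw [← h, Category.assoc, Category.assoc, hfg]

include hreg hU hσ in
/-- Sections of an affine morphism extend uniquely across a big open. -/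
theorem existsUnique_extension : ∃! t : X ⟶ Y, t ≫ p = 𝟙 X ∧ U.ι ≫ t = σ := by
  have key : ∀ t : X ⟶ Y, U.ι ≫ t = σ → ∀ (V : X.Opens),
      (V.ι ⁻¹ᵁ U).ι ≫ V.ι ≫ t = (V.ι ∣_ U) ≫ σ := fun t ht V => by
    rw [← morphismRestrict_ι_assoc, ht]
  have hcov : ∀ x : X, ∃ V : X.Opens, IsAffineOpen V ∧ x ∈ V := fun x => by
    obtain ⟨V, hV, hx, -⟩ := exists_isAffineOpen_mem_and_subset (show x ∈ (⊤ : X.Opens) from trivial)
    exact ⟨V, hV, hx⟩
  choose V hV hxV using hcov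
  let 𝒰 : X.OpenCover := {
    I₀ := X, X i := (V i), f i := (V i).ι,
    mem₀ := by
      rw [Scheme.presieve₀_mem_precoverage_iff]
      refine ⟨fun x ↦ ⟨x, by simpa using hxV x⟩, inferInstance⟩ }
  choose t ht using fun i : X => (existsUnique_isExt_affine q hreg U hU p σ hσ (V i) (hV i)).exists
  have hcompat : ∀ i j, pullback.fst (V i).ι (V j).ι ≫ t i = pullback.snd _ _ ≫ t j := fun i j =>
    isExt_unique q hreg U hU p σ hσ (pullback.fst (V i).ι (V j).ι ≫ (V i).ι) ((ht i).comp _)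
      (pullback.condition (f := (V i).ι) (g := (V j).ι) ▸ (ht j).comp _)
  let T := 𝒰.glueMorphisms t hcompat
  have hT : ∀ i, (V i).ι ≫ T = t i := fun i => 𝒰.ι_glueMorphisms t hcompat i
  refine ⟨T, ⟨Scheme.hom_ext_of_forall _ _ fun x => ⟨V x, hxV x, ?_⟩,
    Scheme.hom_ext_of_forall _ _ fun z => ⟨U.ι ⁻¹ᵁ V z.1, hxV z.1, ?_⟩⟩, fun T' hT' => ?_⟩
  · rw [reassoc_of% hT x, (ht x).1, Category.comp_id]
  · have hr : Set.range ((U.ι ⁻¹ᵁ V z.1).ι ≫ U.ι) ⊆ Set.range (V z.1).ι := by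
      rw [Scheme.Opens.range_ι]
      rintro _ ⟨a, rfl⟩
      exact a.2
    let m := IsOpenImmersion.lift (V z.1).ι ((U.ι ⁻¹ᵁ V z.1).ι ≫ U.ι) hr
    have hm : m ≫ (V z.1).ι = (U.ι ⁻¹ᵁ V z.1).ι ≫ U.ι := IsOpenImmersion.lift_fac _ _ _
    have hr' : Set.range m ⊆ Set.range ((V z.1).ι ⁻¹ᵁ U).ι := by
      rw [Scheme.Opens.range_ι]
      rintro _ ⟨a, rfl⟩
      show (V z.1).ι (m a) ∈ U
      rw [← Scheme.Hom.comp_apply, hm]
      exact a.1.2
    let n := IsOpenImmersion.lift ((V z.1).ι ⁻¹ᵁ U).ι m hr'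
    have hn : n ≫ ((V z.1).ι ⁻¹ᵁ U).ι = m := IsOpenImmersion.lift_fac _ _ _
    have h1 : n ≫ ((V z.1).ι ∣_ U) = (U.ι ⁻¹ᵁ V z.1).ι := by
      rw [← cancel_mono U.ι, Category.assoc, morphismRestrict_ι, reassoc_of% hn, hm]
    rw [← reassoc_of% hm, hT, ← hn, Category.assoc, (ht z.1).2, reassoc_of% h1]
  · refine Scheme.hom_ext_of_forall _ _ fun x => ⟨V x, hxV x, ?_⟩
    rw [hT]
    exact (existsUnique_isExt_affine q hreg U hU p σ hσ (V x) (hV x)).unique
      ⟨by rw [Category.assoc, hT'.1, Category.comp_id], key T' hT'.2 (V x)⟩ (ht x)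

omit [IsAffineHom p] in
include hreg in
/-- Depth at a point whose fibre local ring has dimension at least two. -/
theorem two_le_depth (x : X) (hx : (2 : WithBot ℕ∞) ≤ ringKrullDim (CInt.fiberStalk q x)) :
    (2 : ℕ∞) ≤ LocCoh.depth (X.presheaf.stalk x) (X.presheaf.stalk x) := by
  obtain ⟨s, w, rfl⟩ : ∃ (s : S) (w : q.fiber s), q.fiberι s w = x :=
    ⟨q x, q.asFiber x, Scheme.Hom.fiberι_asFiber q x⟩
  obtain ⟨W, hW, hsW, -⟩ :=
    exists_isAffineOpen_mem_and_subset (show q (q.fiberι s w) ∈ (⊤ : S.Opens) from trivial)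
  obtain ⟨U₀, hU₀, hx₀, hle₀⟩ :=
    exists_isAffineOpen_mem_and_subset (show q.fiberι s w ∈ q ⁻¹ᵁ W from hsW)
  haveI := hreg s w
  let π := ((q.fiberι s).stalkMap w).hom
  have hπ : Function.Surjective π := (q.fiberι s).stalkMap_surjective w
  letI := (X.presheaf.germ U₀ _ hx₀).hom.toAlgebra
  haveI : IsLocalization.AtPrime (X.presheaf.stalk (q.fiberι s w)) (hU₀.primeIdealOf ⟨_, hx₀⟩).asIdeal :=
    hU₀.isLocalization_stalk ⟨_, hx₀⟩
  have hQ : (hU₀.primeIdealOf ⟨_, hx₀⟩).asIdeal.map (X.presheaf.germ U₀ _ hx₀).hom =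
      maximalIdeal (X.presheaf.stalk (q.fiberι s w)) :=
    IsLocalization.AtPrime.map_eq_maximalIdeal (hU₀.primeIdealOf ⟨_, hx₀⟩).asIdeal _
  have hht : (2 : ℕ∞) ≤ (((hU₀.primeIdealOf ⟨_, hx₀⟩).asIdeal.map
      (X.presheaf.germ U₀ _ hx₀).hom).map π).height := by
    haveI : IsLocalHom π := IsLocalHom.of_surjective π hπ
    have hmax : (maximalIdeal (X.presheaf.stalk (q.fiberι s w))).map π =
        maximalIdeal ((q.fiber s).presheaf.stalk w) :=
      (Ideal.map_eq_top_or_isMaximal_of_surjective π hπ (maximalIdeal.isMaximal _)).resolve_left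
        (ne_top_of_le_ne_top (maximalIdeal.isMaximal _).ne_top (map_maximalIdeal_le π)) |>
        IsLocalRing.eq_maximalIdeal
    rw [hQ, hmax]
    rw [← CIntCodim.dim_fiberStalk_eq q w, ← IsLocalRing.maximalIdeal_height_eq_ringKrullDim] at hx
    exact WithBot.coe_le_coe.1 hx
  obtain ⟨a, ha, b, hb, g, hxg, hreg'⟩ :=
    exists_pair_of_height q s w hW hU₀ hle₀ hx₀ _ le_rfl hht
  letI : Algebra Γ(X, X.basicOpen g) (X.presheaf.stalk (q.fiberι s w)) :=
    (X.presheaf.germ (X.basicOpen g) _ hxg).hom.toAlgebra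
  haveI : IsLocalization.AtPrime (X.presheaf.stalk (q.fiberι s w))
      ((hU₀.basicOpen g).primeIdealOf ⟨_, hxg⟩).asIdeal := (hU₀.basicOpen g).isLocalization_stalk ⟨_, hxg⟩
  haveI : Module.Flat Γ(X, X.basicOpen g) (X.presheaf.stalk (q.fiberι s w)) :=
    IsLocalization.flat _ ((hU₀.basicOpen g).primeIdealOf ⟨_, hxg⟩).asIdeal.primeCompl
  have hseq := hreg'.of_flat (S := X.presheaf.stalk (q.fiberι s w))
  unfold LocCoh.depth LocCoh.idealDepth
  split_ifs with h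
  · exact le_top
  refine le_trans ?_ (le_iSup₂ _ ⟨hseq, fun r hr => ?_⟩)
  · simp
  · simp only [List.map_cons, List.map_nil, List.mem_cons, List.not_mem_nil, or_false,
      RingHom.algebraMap_toAlgebra, TopCat.Presheaf.germ_res_apply] at hr
    rcases hr with rfl | rfl
    · exact hQ.le (Ideal.mem_map_of_mem _ ha)
    · exact hQ.le (Ideal.mem_map_of_mem _ hb)

end Groth.Agent.BigOpen12
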