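import Groth.Agent.BigOpen12.Basic
import Groth.Agent.LFFrame.Basic

/-!
# Locally free modules across a big open
-/

set_option autoImplicit false
set_option linter.style.haveILetI false

universe u

open CategoryTheory AlgebraicGeometry Opposite

namespace Groth.Agent.BigOpen12

variable {X S : Scheme.{u}} (q : X ⟶ S) [Flat q] [LocallyOfFinitePresentation q]
  (hreg : ∀ (s : S) (w : q.fiber s), IsRegularLocalRing ((q.fiber s).presheaf.stalk w)) (U : X.Opens)
  (hU : ∀ x : X, x ∉ U → (2 : WithBot ℕ∞) ≤ ringKrullDim (CInt.fiberStalk q x))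

include hreg hU in
/-- A finite locally free module is the pushforward of its restriction to a big open. -/
theorem isIso_restrict_unit (E : X.Modules) (hE : FlatMod.IsFinLocFree E) :
    IsIso ((Scheme.Modules.restrictAdjunction U.ι).unit.app E) := by
  refine LFFrame.isIso_of_locally_bijective _ fun x => ?_
  obtain ⟨W, n, e, hx, he⟩ := LFFrame.exists_isFrame_of_isFinLocFree hE x
  refine ⟨W, hx, fun V hV => ?_⟩
  rw [Scheme.Modules.restrictAdjunction_unit_app_app]
  have key : ∀ (T : X.Opens) (hT : T ≤ V), T = V ⊓ U → Function.Bijective (E.presheaf.map (homOfLE hT).op) := by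
    intro T hT hTU
    subst hTU
    have hR : Function.Bijective (fun a : Fin n → Γ(X, V) => fun i => res hT (a i)) :=
      Function.Bijective.piMap fun _ => ⟨res_injective q hreg U hU V, res_surjective q hreg U hU V⟩
    have hfac : (E.presheaf.map (homOfLE hT).op) ∘ LFFrame.comb E e hV =
        LFFrame.comb E e (hT.trans hV) ∘ (fun a i => res hT (a i)) :=
      funext fun a => LFFrame.res_comb E e hV hT a
    exact (Function.Bijective.of_comp_iff _ (he V hV)).1 (by rw [hfac]; exact (he _ _).comp hR)
  exact key _ (U.ι.image_preimage_le V) (by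
    rw [Scheme.Hom.image_preimage_eq_opensRange_inf, Scheme.Opens.opensRange_ι, inf_comm])

end Groth.Agent.BigOpen12
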